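import Mathlib
import Groth.Agent.Lib.Helper8.Elkik.Approx

/-!
# Sections of smooth affine schemes over `A[1/t]` from sections over `A'[1/t]`

`(A, tA)` henselian with bounded `t`-power torsion, `A → A'` completion-like (`AC1`, `AC2`).
If `C` is a smooth `A[1/t]`-algebra with an `A[1/t]`-algebra map `C → A'[1/t]`, then `C` has an
`A[1/t]`-algebra retraction `C → A[1/t]`.
-/

set_option autoImplicit false
universe u
open MvPolynomial

namespace Groth.Agent.H8.SmoothSec

theorem aeval_sub_aeval_mem {A A' : Type*} [CommRing A] [CommRing A'] [Algebra A A']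
    {σ : Type*} (I : Ideal A') (x x' : σ → A') (h : ∀ k, x k - x' k ∈ I)
    (p : MvPolynomial σ A) : aeval x p - aeval x' p ∈ I := by
  rw [← Ideal.Quotient.eq]
  have h1 : ∀ c : σ → A', Ideal.Quotient.mk I (aeval c p) =
      aeval (fun k => Ideal.Quotient.mk I (c k)) p := by
    intro c
    exact DFunLike.congr_fun (MvPolynomial.comp_aeval c (Ideal.Quotient.mkₐ A I)) p
  rw [h1, h1]
  have h2 : (fun k => Ideal.Quotient.mk I (x k)) = fun k => Ideal.Quotient.mk I (x' k) := by
    funext k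
    exact Ideal.Quotient.eq.mpr (h k)
  rw [h2]

/-- Elkik approximation in the abstract completion-like setting: existence of an `A`-point. -/
theorem exists_algHom_of_AC {A A' : Type u} [CommRing A] [CommRing A'] [Algebra A A'] (t : A)
    [HenselianRing A (Ideal.span {t})]
    (hbd : ∃ N : ℕ, ∀ a : A, (∃ m : ℕ, t ^ m * a = 0) → t ^ N * a = 0)
    (AC1 : ∀ (n : ℕ) (x : A'), ∃ (a : A) (y : A'),
      x - algebraMap A A' a = algebraMap A A' t ^ n * y)
    (AC2 : ∀ (n : ℕ) (a : A) (y : A'), algebraMap A A' a = algebraMap A A' t ^ n * y →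
      ∃ a' : A, a = t ^ n * a')
    (B : Type u) [CommRing B] [Algebra A B] [Algebra.FiniteType A B]
    (Bt : Type u) [CommRing Bt] [Algebra B Bt] [Algebra A Bt] [IsScalarTower A B Bt]
    [IsLocalization.Away (algebraMap A B t) Bt] [Algebra.Smooth A Bt]
    (σ : B →ₐ[A] A') : Nonempty (B →ₐ[A] A) := by
  classical
  obtain ⟨c₀, hc₀⟩ := hbd
  obtain ⟨N, π, hπ⟩ := Algebra.FiniteType.iff_quotient_mvPolynomial''.mp
    (inferInstance : Algebra.FiniteType A B)
  obtain ⟨m, g, c, s, hgJ, hJg, hrel⟩ := Groth.Agent.H8.Elkik.exists_smooth_data t Bt π hπ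
  obtain ⟨n', hn'⟩ : ∃ n' : ℕ, n' = 4 * s + 1 + c₀ + 2 * s := ⟨_, rfl⟩
  choose a y hy using fun k : Fin N => AC1 n' (σ (π (X k)))
  have haJ : ∀ p, π p = 0 → eval a p ∈ Ideal.span {t ^ n'} := by
    intro p hp
    have h1 : aeval (fun k => σ (π (X k))) p = σ (π p) :=
      (DFunLike.congr_fun (MvPolynomial.aeval_unique (σ.comp π)) p).symm
    have h3 : aeval (fun k => algebraMap A A' (a k)) p = algebraMap A A' (eval a p) :=
      (DFunLike.congr_fun (MvPolynomial.comp_aeval a (Algebra.ofId A A')) p).symm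
    have h5 : aeval (fun k => σ (π (X k))) p - aeval (fun k => algebraMap A A' (a k)) p ∈
        Ideal.span {algebraMap A A' t ^ n'} := by
      apply aeval_sub_aeval_mem
      intro k
      rw [hy k]
      exact Ideal.mul_mem_right _ _ (Ideal.mem_span_singleton_self _)
    rw [h1, h3, hp, map_zero, zero_sub, neg_mem_iff] at h5
    obtain ⟨z, hz⟩ := Ideal.mem_span_singleton'.mp h5
    obtain ⟨a', ha'⟩ := AC2 n' (eval a p) z (by rw [← hz, mul_comm])
    rw [ha']
    exact Ideal.mul_mem_right _ _ (Ideal.mem_span_singleton_self _)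
  obtain ⟨a', ha'g, ha'a⟩ := Groth.Agent.H8.Elkik.exists_solution_of_data t c₀ hc₀ g c s hrel n'
    (by omega) (by omega) a (fun i => haJ _ (hgJ i))
  have hJ₀a' : ∀ p ∈ Ideal.span (Set.range g), eval a' p = 0 := by
    intro p hp
    have := Groth.Agent.H8.Elkik.eval_mem_of_mem_span g a' ⊥
      (fun i => by rw [ha'g i]; exact Ideal.zero_mem _) hp
    simpa using this
  have hJa' : ∀ p, π p = 0 → eval a' p = 0 := by
    intro p hp
    obtain ⟨e, he⟩ := hJg p hp
    have h1 : t ^ e * eval a' p = 0 := by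
      have := hJ₀a' _ he
      simpa using this
    have h2 : eval a' p - eval a p ∈ Ideal.span {t ^ (n' - 2 * s)} :=
      SmoothLift.eval_sub_eval_mem _ a' a ha'a p
    have h3 : eval a p ∈ Ideal.span {t ^ (n' - 2 * s)} :=
      (Ideal.span_singleton_le_span_singleton.mpr (pow_dvd_pow t (Nat.sub_le _ _))) (haJ p hp)
    have h4 : eval a' p ∈ Ideal.span {t ^ (n' - 2 * s)} := by
      have := Ideal.add_mem _ h2 h3
      simpa using this
    obtain ⟨z, hz⟩ := Ideal.mem_span_singleton'.mp h4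
    have h5 : t ^ (e + (n' - 2 * s)) * z = 0 := by
      rw [pow_add, mul_assoc, mul_comm _ z, hz]; exact h1
    have h6 := hc₀ z ⟨_, h5⟩
    rw [← hz]
    have h7 : n' - 2 * s = (n' - 2 * s - c₀) + c₀ := by omega
    rw [h7, pow_add]; linear_combination t ^ (n' - 2 * s - c₀) * h6
  let τ₀ : (MvPolynomial (Fin N) A ⧸ RingHom.ker π.toRingHom) →ₐ[A] A :=
    Ideal.Quotient.liftₐ (RingHom.ker π.toRingHom) (aeval a') (fun p hp => by
      have : aeval a' p = eval a' p := rfl
      rw [this]; exact hJa' p hp)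
  let e : (MvPolynomial (Fin N) A ⧸ RingHom.ker π.toRingHom) ≃ₐ[A] B :=
    Ideal.quotientKerAlgEquivOfSurjective hπ
  exact ⟨τ₀.comp e.symm.toAlgHom⟩

/-- A finite type `A`-model `B` of `C` (with `B[1/t] = C`) together with an `A'`-point of `B`,
obtained from an `A'[1/t]`-point of `C` by clearing denominators. -/
theorem exists_model {A A' D L' : Type u} [CommRing A] [CommRing A'] [CommRing D] [CommRing L']
    [Algebra A A'] [Algebra A D] [Algebra A' L'] (t : A)
    [IsLocalization.Away (algebraMap A A' t) L'] [Algebra.FiniteType A D]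
    (hut : IsUnit (algebraMap A D t)) (σ : D →+* L')
    (hσ : ∀ a : A, σ (algebraMap A D a) = algebraMap A' L' (algebraMap A A' a)) :
    ∃ (B : Type u) (_ : CommRing B) (_ : Algebra A B) (_ : Algebra B D),
      IsScalarTower A B D ∧ Algebra.FiniteType A B ∧
      IsLocalization.Away (algebraMap A B t) D ∧ Nonempty (B →ₐ[A] A') := by
  classical
  obtain ⟨n, π, hπ⟩ := Algebra.FiniteType.iff_quotient_mvPolynomial''.mp
    (inferInstance : Algebra.FiniteType A D)
  obtain ⟨b, hb⟩ := IsLocalization.exist_integer_multiples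
    (Submonoid.powers (algebraMap A A' t)) (Finset.univ : Finset (Fin n))
    (fun i => σ (π (X i)))
  obtain ⟨N, hN⟩ := (Submonoid.mem_powers_iff _ _).mp b.2
  have hη : ∀ i, ∃ η : A', algebraMap A' L' η =
      algebraMap A' L' (algebraMap A A' t) ^ N * σ (π (X i)) := by
    intro i
    obtain ⟨η, hη⟩ := hb i (Finset.mem_univ _)
    have hη' : algebraMap A' L' η = (b : A') • σ (π (X i)) := hη
    exact ⟨η, by rw [hη', ← hN, Algebra.smul_def, map_pow]⟩
  choose η hη using hη
  obtain ⟨π', hπ'C, hπ'X⟩ : ∃ π' : MvPolynomial (Fin n) A →ₐ[A] D,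
      (∀ a, π' (C a) = algebraMap A D a) ∧ ∀ i, π' (X i) = algebraMap A D t ^ N * π (X i) :=
    ⟨aeval (fun i => algebraMap A D t ^ N * π (X i)), fun a => algHom_C _ a, fun i => aeval_X _ i⟩
  obtain ⟨ρ, hρC, hρX⟩ : ∃ ρ : MvPolynomial (Fin n) A →ₐ[A] A',
      (∀ a, ρ (C a) = algebraMap A A' a) ∧ ∀ i, ρ (X i) = η i :=
    ⟨aeval η, fun a => algHom_C _ a, fun i => aeval_X _ i⟩
  have hcompat : ∀ p : MvPolynomial (Fin n) A, algebraMap A' L' (ρ p) = σ (π' p) := by
    intro p
    have h1 : (algebraMap A' L').comp (ρ : MvPolynomial (Fin n) A →+* A') =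
        σ.comp (π' : MvPolynomial (Fin n) A →+* D) := by
      apply MvPolynomial.ringHom_ext
      · intro a
        simp only [RingHom.comp_apply, RingHom.coe_coe, hρC, hπ'C]
        exact (hσ a).symm
      · intro i
        simp only [RingHom.comp_apply, RingHom.coe_coe, hρX, hπ'X, map_mul, map_pow]
        rw [hη i, hσ t]
    exact RingHom.congr_fun h1 p
  have hsurj : ∀ p : MvPolynomial (Fin n) A, ∃ (k : ℕ) (q : MvPolynomial (Fin n) A),
      π p * algebraMap A D t ^ k = π' q := by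
    intro p
    induction p using MvPolynomial.induction_on with
    | C a => exact ⟨0, C a, by rw [pow_zero, mul_one, hπ'C, algHom_C]⟩
    | add p₁ p₂ h₁ h₂ =>
      obtain ⟨k₁, q₁, e₁⟩ := h₁
      obtain ⟨k₂, q₂, e₂⟩ := h₂
      refine ⟨k₁ + k₂, C (t ^ k₂) * q₁ + C (t ^ k₁) * q₂, ?_⟩
      rw [map_add, map_add, map_mul, map_mul, hπ'C, hπ'C, map_pow, map_pow, ← e₁, ← e₂, pow_add]
      ring
    | mul_X p i h =>
      obtain ⟨k, q, e⟩ := h
      refine ⟨k + N, q * X i, ?_⟩
      rw [map_mul, map_mul, ← e, hπ'X, pow_add]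
      ring
  obtain ⟨J, hJ⟩ : ∃ J : Ideal (MvPolynomial (Fin n) A), ∀ p, p ∈ J ↔ π' p = 0 ∧ ρ p = 0 :=
    ⟨RingHom.ker (π' : MvPolynomial (Fin n) A →+* D) ⊓
      RingHom.ker (ρ : MvPolynomial (Fin n) A →+* A'), fun p => Iff.rfl⟩
  let πB : (MvPolynomial (Fin n) A ⧸ J) →ₐ[A] D :=
    Ideal.Quotient.liftₐ J π' (fun p hp => ((hJ p).mp hp).1)
  let ρB : (MvPolynomial (Fin n) A ⧸ J) →ₐ[A] A' :=
    Ideal.Quotient.liftₐ J ρ (fun p hp => ((hJ p).mp hp).2)
  letI algBC : Algebra (MvPolynomial (Fin n) A ⧸ J) D := πB.toRingHom.toAlgebra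
  have hπB : ∀ p : MvPolynomial (Fin n) A,
      algebraMap (MvPolynomial (Fin n) A ⧸ J) D (Ideal.Quotient.mk J p) = π' p := fun p => rfl
  haveI hST : IsScalarTower A (MvPolynomial (Fin n) A ⧸ J) D :=
    IsScalarTower.of_algebraMap_eq (fun a => (πB.commutes a).symm)
  have htB : ∀ k : ℕ, algebraMap A (MvPolynomial (Fin n) A ⧸ J) t ^ k =
      Ideal.Quotient.mk J (C (t ^ k)) := by
    intro k
    rw [← map_pow]
    rfl
  refine ⟨MvPolynomial (Fin n) A ⧸ J, inferInstance, inferInstance, algBC, hST, ?_, ?_, ⟨ρB⟩⟩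
  · exact Algebra.FiniteType.of_surjective (Ideal.Quotient.mkₐ A J)
      (Ideal.Quotient.mkₐ_surjective A J)
  · refine (isLocalization_iff _ _).mpr ⟨?_, ?_, ?_⟩
    · intro y
      obtain ⟨k, hk⟩ := (Submonoid.mem_powers_iff _ _).mp y.2
      rw [← hk, map_pow, ← IsScalarTower.algebraMap_apply]
      exact hut.pow k
    · intro z
      obtain ⟨p, rfl⟩ := hπ z
      obtain ⟨k, q, e⟩ := hsurj p
      refine ⟨(Ideal.Quotient.mk J q,
        ⟨algebraMap A (MvPolynomial (Fin n) A ⧸ J) t ^ k, k, rfl⟩), ?_⟩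
      show π p * algebraMap (MvPolynomial (Fin n) A ⧸ J) D
        (algebraMap A (MvPolynomial (Fin n) A ⧸ J) t ^ k) = _
      rw [hπB, map_pow, ← IsScalarTower.algebraMap_apply, e]
    · intro x y hxy
      obtain ⟨p₁, rfl⟩ := Ideal.Quotient.mk_surjective x
      obtain ⟨p₂, rfl⟩ := Ideal.Quotient.mk_surjective y
      rw [hπB, hπB] at hxy
      have h0 : π' (p₁ - p₂) = 0 := by rw [map_sub, hxy, sub_self]
      have h4 : algebraMap A' L' (ρ (p₁ - p₂)) = 0 := by rw [hcompat, h0, map_zero]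
      obtain ⟨q, hq⟩ :=
        (IsLocalization.map_eq_zero_iff (Submonoid.powers (algebraMap A A' t)) L' _).mp h4
      obtain ⟨k, hk⟩ := (Submonoid.mem_powers_iff _ _).mp q.2
      have h5 : C (t ^ k) * (p₁ - p₂) ∈ J := by
        refine (hJ _).mpr ⟨?_, ?_⟩
        · rw [map_mul, h0, mul_zero]
        · rw [map_mul, hρC, map_pow, hk]
          exact hq
      refine ⟨⟨algebraMap A (MvPolynomial (Fin n) A ⧸ J) t ^ k, k, rfl⟩, ?_⟩
      show algebraMap A (MvPolynomial (Fin n) A ⧸ J) t ^ k * Ideal.Quotient.mk J p₁ =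
        algebraMap A (MvPolynomial (Fin n) A ⧸ J) t ^ k * Ideal.Quotient.mk J p₂
      rw [← sub_eq_zero, ← mul_sub, ← map_sub, htB, ← map_mul]
      exact Ideal.Quotient.eq_zero_iff_mem.mpr h5

/-- Main ring-level theorem. -/
theorem exists_retraction_of_smooth
    {A A' L L' : Type u} [CommRing A] [CommRing A'] [CommRing L] [CommRing L']
    [Algebra A A'] [Algebra A L] [Algebra A' L'] [Algebra L L'] (t : A)
    [IsLocalization.Away t L] [IsLocalization.Away (algebraMap A A' t) L']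
    [HenselianRing A (Ideal.span {t})]
    (hbd : ∃ c₀ : ℕ, ∀ a : A, (∃ m : ℕ, t ^ m * a = 0) → t ^ c₀ * a = 0)
    (hcomp : ∀ a : A, algebraMap L L' (algebraMap A L a) = algebraMap A' L' (algebraMap A A' a))
    (AC1 : ∀ (n : ℕ) (x : A'), ∃ (a : A) (y : A'),
      x - algebraMap A A' a = algebraMap A A' t ^ n * y)
    (AC2 : ∀ (n : ℕ) (a : A) (y : A'), algebraMap A A' a = algebraMap A A' t ^ n * y →
      ∃ a' : A, a = t ^ n * a')
    (C : Type u) [CommRing C] (φ : L →+* C) (hφ : φ.Smooth) (σ : C →+* L')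
    (hσ : σ.comp φ = algebraMap L L') :
    ∃ τ : C →+* L, τ.comp φ = RingHom.id L := by
  letI algLC : Algebra L C := φ.toAlgebra
  letI algAC : Algebra A C := (φ.comp (algebraMap A L)).toAlgebra
  haveI : IsScalarTower A L C := IsScalarTower.of_algebraMap_eq (fun _ => rfl)
  haveI : Algebra.Smooth L C := hφ
  haveI : Algebra.Smooth A L := Algebra.Smooth.of_isLocalization_Away t
  haveI : Algebra.Smooth A C := Algebra.Smooth.comp A L C
  haveI : Algebra.FiniteType A C := inferInstance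
  have hut : IsUnit (algebraMap A C t) :=
    (IsLocalization.Away.algebraMap_isUnit (S := L) t).map φ
  have hσ' : ∀ a : A, σ (algebraMap A C a) = algebraMap A' L' (algebraMap A A' a) := by
    intro a
    rw [← hcomp a, ← hσ]
    rfl
  obtain ⟨B, _, _, _, hST, hFT, hLoc, ⟨ρ⟩⟩ := exists_model (A' := A') (L' := L') t hut σ hσ'
  haveI := hST
  haveI := hFT
  haveI := hLoc
  obtain ⟨τ₀⟩ := exists_algHom_of_AC t hbd AC1 AC2 B C ρ
  have hτ₀ : ∀ a : A, τ₀ (algebraMap A B a) = a := fun a => τ₀.commutes a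
  have hg : IsUnit (((algebraMap A L).comp τ₀.toRingHom) (algebraMap A B t)) := by
    have h1 : ((algebraMap A L).comp τ₀.toRingHom) (algebraMap A B t) = algebraMap A L t := by
      show algebraMap A L (τ₀ (algebraMap A B t)) = _
      rw [hτ₀]
    rw [h1]
    exact IsLocalization.Away.algebraMap_isUnit t
  refine ⟨IsLocalization.Away.lift (algebraMap A B t) hg, ?_⟩
  apply IsLocalization.ringHom_ext (Submonoid.powers t)
  ext a
  have h1 : φ (algebraMap A L a) = algebraMap B C (algebraMap A B a) :=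
    IsScalarTower.algebraMap_apply A B C a
  show IsLocalization.Away.lift (algebraMap A B t) hg (φ (algebraMap A L a)) = algebraMap A L a
  rw [h1, IsLocalization.Away.lift_eq]
  show algebraMap A L (τ₀ (algebraMap A B a)) = _
  rw [hτ₀]

end Groth.Agent.H8.SmoothSec
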