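import Mathlib
import Groth.Agent.Lib.Helper8.SmoothSec.Ring
import Groth.Agent.Lib.Helper8.IdemApprox.Laurent
import Groth.Agent.Lib.Helper9.Misc.APA1

/-!
# Retractions of smooth algebras: the cases `A[1/t] → Â[1/t]` and `R{t}[1/t] → R((t))`
-/

set_option autoImplicit false
universe u
open Polynomial

namespace Groth.Agent.H8.SmoothSec

open Groth.Agent.H8.IdemApprox

theorem adic_retraction (A : Type u) [CommRing A] (t : A) [HenselianRing A (Ideal.span {t})]
    (hbd : ∃ N : ℕ, ∀ a : A, (∃ m : ℕ, t ^ m * a = 0) → t ^ N * a = 0)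
    (C : Type u) [CommRing C] (φ : Localization.Away t →+* C) (hφ : φ.Smooth)
    (σ : C →+* Localization.Away (algebraMap A (AdicCompletion (Ideal.span {t}) A) t))
    (hσ : σ.comp φ = Localization.awayMap (algebraMap A (AdicCompletion (Ideal.span {t}) A)) t) :
    ∃ τ : C →+* Localization.Away t, τ.comp φ = RingHom.id (Localization.Away t) := by
  letI : Algebra (Localization.Away t)
      (Localization.Away (algebraMap A (AdicCompletion (Ideal.span {t}) A) t)) :=
    (Localization.awayMap (algebraMap A (AdicCompletion (Ideal.span {t}) A)) t).toAlgebra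
  refine exists_retraction_of_smooth (A := A) (A' := AdicCompletion (Ideal.span {t}) A)
    (L := Localization.Away t)
    (L' := Localization.Away (algebraMap A (AdicCompletion (Ideal.span {t}) A) t)) t hbd ?_
    (Groth.Agent.H9.APA.adic_AC1 t) (Groth.Agent.H9.APA.adic_AC2 t) C φ hφ σ hσ
  intro a
  show Localization.awayMap (algebraMap A (AdicCompletion (Ideal.span {t}) A)) t
    (algebraMap A (Localization.Away t) a) = _
  exact IsLocalization.map_eq _ _

theorem laurent_retraction {R : Type u} [CommRing R] {B : Type u} [CommRing B] [Algebra R[X] B]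
    (hB : Hens2.IsPairHenselization R[X] (Ideal.span {(X : R[X])}) B)
    (ψ : B →ₐ[R[X]] PowerSeries R)
    (χ : Localization.Away (algebraMap R[X] B X) →+* LaurentSeries R)
    (hχ : χ.comp (algebraMap B (Localization.Away (algebraMap R[X] B X))) =
      (HahnSeries.ofPowerSeries ℤ R).comp ψ.toRingHom)
    (C : Type u) [CommRing C] (φ : Localization.Away (algebraMap R[X] B X) →+* C) (hφ : φ.Smooth)
    (σ : C →+* LaurentSeries R) (hσ : σ.comp φ = χ) :
    ∃ τ : C →+* Localization.Away (algebraMap R[X] B X),
      τ.comp φ = RingHom.id (Localization.Away (algebraMap R[X] B X)) := by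
  letI algBP : Algebra B (PowerSeries R) := ψ.toRingHom.toAlgebra
  letI algLL' : Algebra (Localization.Away (algebraMap R[X] B X)) (LaurentSeries R) :=
    χ.toAlgebra
  have hψt : algebraMap B (PowerSeries R) (algebraMap R[X] B X) = PowerSeries.X := psi_X ψ
  haveI hloc : IsLocalization.Away (algebraMap B (PowerSeries R) (algebraMap R[X] B X))
      (LaurentSeries R) := by
    rw [hψt]
    infer_instance
  haveI hH : HenselianRing B (Ideal.span {algebraMap R[X] B X}) := by
    have h1 := hB.1
    rwa [Ideal.map_span, Set.image_singleton] at h1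
  have hreg : IsSMulRegular B (algebraMap R[X] B X) := by
    haveI := Groth.Agent.H8.PairHens.flat_of_isPairHenselization hB
    exact IsSMulRegular.of_flat (Polynomial.monic_X.isRegular.left.isSMulRegular)
  have hbd : ∃ c₀ : ℕ, ∀ a : B, (∃ m : ℕ, (algebraMap R[X] B X) ^ m * a = 0) →
      (algebraMap R[X] B X) ^ c₀ * a = 0 := by
    refine ⟨0, fun a ⟨m, hm⟩ => ?_⟩
    rw [pow_zero, one_mul]
    exact (hreg.pow m) (show (algebraMap R[X] B X) ^ m • a = (algebraMap R[X] B X) ^ m • 0 by
      rw [smul_eq_mul, smul_zero, hm])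
  have hcomp : ∀ b : B, algebraMap (Localization.Away (algebraMap R[X] B X)) (LaurentSeries R)
      (algebraMap B (Localization.Away (algebraMap R[X] B X)) b) =
      algebraMap (PowerSeries R) (LaurentSeries R) (algebraMap B (PowerSeries R) b) := fun b =>
    RingHom.congr_fun hχ b
  have AC1 : ∀ (n : ℕ) (x : PowerSeries R), ∃ (a : B) (y : PowerSeries R),
      x - algebraMap B (PowerSeries R) a =
        algebraMap B (PowerSeries R) (algebraMap R[X] B X) ^ n * y := fun n x =>
    laurent_AC1 ψ n x
  have AC2 : ∀ (n : ℕ) (a : B) (y : PowerSeries R), algebraMap B (PowerSeries R) a =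
      algebraMap B (PowerSeries R) (algebraMap R[X] B X) ^ n * y →
      ∃ a' : B, a = (algebraMap R[X] B X) ^ n * a' := fun n a y h =>
    laurent_AC2 hB ψ n a y h
  exact exists_retraction_of_smooth (A := B) (A' := PowerSeries R)
    (L := Localization.Away (algebraMap R[X] B X)) (L' := LaurentSeries R)
    (algebraMap R[X] B X) hbd hcomp AC1 AC2 C φ hφ σ hσ

end Groth.Agent.H8.SmoothSec
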