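import Mathlib
import Groth.Prelude.Def_NonAbH2
import Groth.Agent.Lib.Helper5.Descent.AffineHomDescent
import Groth.Agent.Lib.Helper3.TorsorProp

/-!
# Sections of affine smooth schemes and torsors over an affine base, from ring-level retractions
-/

set_option autoImplicit false
universe u
open CategoryTheory CategoryTheory.Limits AlgebraicGeometry MonoidalCategory

namespace Groth.Agent.H8.SmoothSec

/-- Scheme-level consequence of a ring-level retraction statement for smooth algebras. -/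
theorem hasSection_of_retraction {L L' : Type u} [CommRing L] [CommRing L'] (χ : L →+* L')
    (H : ∀ (C : Type u) [CommRing C] (φ : L →+* C), φ.Smooth → ∀ σ : C →+* L',
      σ.comp φ = χ → ∃ τ : C →+* L, τ.comp φ = RingHom.id L)
    {X : Scheme.{u}} (f : X ⟶ Spec (CommRingCat.of L)) [IsAffineHom f] [Smooth f]
    (s' : Spec (CommRingCat.of L') ⟶ X) (hs' : s' ≫ f = Spec.map (CommRingCat.ofHom χ)) :
    ∃ s : Spec (CommRingCat.of L) ⟶ X, s ≫ f = 𝟙 _ := by
  haveI : IsAffine X := isAffine_of_isAffineHom f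
  obtain ⟨φ', hφ'⟩ : ∃ φ' : CommRingCat.of L ⟶ Γ(X, ⊤), Spec.map φ' = X.isoSpec.inv ≫ f :=
    ⟨Spec.preimage _, Spec.map_preimage _⟩
  obtain ⟨σ', hσ'⟩ : ∃ σ' : Γ(X, ⊤) ⟶ CommRingCat.of L', Spec.map σ' = s' ≫ X.isoSpec.hom :=
    ⟨Spec.preimage _, Spec.map_preimage _⟩
  have hsm : Smooth (Spec.map φ') := by
    rw [hφ']
    infer_instance
  have hφs : φ'.hom.Smooth := (HasRingHomProperty.Spec_iff (P := @Smooth)).mp hsm
  have hcomp : σ'.hom.comp φ'.hom = χ := by
    have h1 : Spec.map (φ' ≫ σ') = Spec.map (CommRingCat.ofHom χ) := by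
      rw [Spec.map_comp, hσ', hφ', Category.assoc, Iso.hom_inv_id_assoc, hs']
    have h2 := Spec.map_injective h1
    exact congrArg CommRingCat.Hom.hom h2
  obtain ⟨τ, hτ⟩ := H Γ(X, ⊤) φ'.hom hφs σ'.hom hcomp
  refine ⟨Spec.map (CommRingCat.ofHom τ) ≫ X.isoSpec.inv, ?_⟩
  rw [Category.assoc, ← hφ', ← Spec.map_comp]
  have h3 : φ' ≫ CommRingCat.ofHom τ = 𝟙 _ := by
    ext x
    exact RingHom.congr_fun hτ x
  rw [h3, Spec.map_id]

/-- An fppf torsor under an affine smooth group scheme over an affine base is affine and smooth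
over the base. -/
theorem affine_smooth_of_torsor {S : Scheme.{u}} [IsAffine S] {G P : Over S} [GrpObj G]
    [IsAffine G.left] [Smooth G.hom] (a : AlgGrp.Action G P)
    (hP : NonAbH1.IsTorsorFor Scheme.fppfPrecoverage a) : IsAffineHom P.hom ∧ Smooth P.hom := by
  haveI : IsAffineHom G.hom := inferInstance
  exact ⟨Groth.Agent.H3.TorsorProp.hom_of_isTorsorFor a @IsAffineHom Scheme.fppfPrecoverage hP
      inferInstance,
    Groth.Agent.H3.TorsorProp.hom_of_isTorsorFor a @Smooth Scheme.fppfPrecoverage hP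
      inferInstance⟩

/-- Combined: triviality of torsors descends along `Spec χ` given the ring-level statement. -/
theorem hasSectionOver_of_retraction {L L' : Type u} [CommRing L] [CommRing L'] (χ : L →+* L')
    (H : ∀ (C : Type u) [CommRing C] (φ : L →+* C), φ.Smooth → ∀ σ : C →+* L',
      σ.comp φ = χ → ∃ τ : C →+* L, τ.comp φ = RingHom.id L)
    (G : Over (Spec (CommRingCat.of L))) [GrpObj G] [IsAffine G.left] [Smooth G.hom]
    (P : Over (Spec (CommRingCat.of L))) (a : AlgGrp.Action G P)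
    (hP : NonAbH1.IsTorsorFor Scheme.fppfPrecoverage a)
    (hsec : NonAbH1.HasSectionOver P (Spec.map (CommRingCat.ofHom χ))) :
    NonAbH1.HasSectionOver P (𝟙 (Spec (CommRingCat.of L))) := by
  obtain ⟨h1, h2⟩ := affine_smooth_of_torsor a hP
  obtain ⟨s', hs'⟩ := hsec
  exact hasSection_of_retraction χ H P.hom s' hs'

end Groth.Agent.H8.SmoothSec
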